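import Groth.Agent.S7681
import Groth.Agent.S1585
import Groth.Agent.S17806
import Groth.Agent.VarietyLib.CurveHom
import Groth.Agent.HodgeQ27.Restrict
import Groth.Agent.CAlgH3.Serre
import Groth.Agent.GrpdField.Equidim

/-!
# Connectedness of ample divisors on integral schemes
-/

set_option autoImplicit false
set_option linter.style.haveILetI false
set_option backward.isDefEq.respectTransparency.types false

universe u

open CategoryTheory CategoryTheory.Limits AlgebraicGeometry Opposite TopologicalSpace
open Groth.Agent.Coherent Groth.Agent.PicLib Groth.Agent.AmpleLib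

namespace Groth.Agent.AmpleConn23

variable {X : Scheme.{u}}

theorem nonempty_glocus [IsIntegral X] {L : X.Modules} (hL : PicF.IsInvertible L)
    (s : Coh.structureModule X ⟶ L) (hs : Mono s) :
    (glocus L (unitVal s ⊤) : Set X).Nonempty := by
  obtain ⟨U, hxU, g, hg⟩ := exists_isGen hL (genericPoint X)
  by_contra hne
  have hbot : glocus L (unitVal s ⊤) = ⊥ := Opens.ext (Set.not_nonempty_iff_eq_empty.1 hne)
  have h := glocus_inf (unitVal s ⊤) hg
  rw [hbot, bot_inf_eq, resM_unitVal] at h
  have hc : hg.coef le_rfl (unitVal s U) = 0 := (basicOpen_eq_bot_iff _).1 h.symm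
  have h0 : unitVal s U = 0 := by
    rw [← hg.coef_spec le_rfl (unitVal s U), hc, zero_smul]
  haveI : Nonempty U := ⟨⟨genericPoint X, hxU⟩⟩
  exact one_ne_zero (α := Γ(X, U)) (ModStalk.app_injective_of_mono s U (h0.trans (map_zero _).symm))

variable {k : Type u} [Field k]

theorem connected_of_normal (f : X ⟶ Spec (CommRingCat.of k)) [IsProper f] [IsIntegral X]
    (hN : Pi1.IsNormalScheme X) (hdim : (2 : WithBot ℕ∞) ≤ topologicalKrullDim X) (L : X.Modules)
    (hL : CohB1.IsAmple L) (s : Coh.structureModule X ⟶ L) (hs : Mono s) :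
    ConnectedSpace ↥(PicF2.zeroScheme L s).subscheme := by
  letI : X.Over (Spec (CommRingCat.of k)) := ⟨f⟩
  haveI : IsProper (X ↘ Spec (CommRingCat.of k)) := ‹IsProper f›
  refine S7681.result k X L hL s hs fun x hx => ?_
  haveI := (hN x).1
  haveI := (hN x).2
  haveI : IsLocallyNoetherian X := LocallyOfFiniteType.isLocallyNoetherian f
  refine CAlgH3.two_le_depth_of_normal (hdim.trans (le_of_eq ?_))
  refine (GrpdField.ringKrullDim_stalk_of_equidim f (fun y hy => ?_) x hx).symm
  rw [DimLib.topologicalKrullDim_eq_ptDim_genericPoint f, hy _ (genericPoint_specializes y)]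

theorem dim_le_of_surjective {Y : Scheme.{u}} (f : X ⟶ Spec (CommRingCat.of k)) [LocallyOfFiniteType f]
    [IrreducibleSpace X] (ν : Y ⟶ X) [LocallyOfFiniteType ν] (hsur : Function.Surjective ν.base) :
    topologicalKrullDim X ≤ topologicalKrullDim Y := by
  obtain ⟨η, hη⟩ := hsur (genericPoint X)
  rw [DimLib.topologicalKrullDim_eq_ptDim_genericPoint f, ← hη]
  exact le_trans (by exact_mod_cast DimLib.ptDim_apply_le f ν η) (DimLib.ptDim_le_topologicalKrullDim (ν ≫ f) η)

/-- Connectedness of a zero scheme through a surjective morphism. -/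
theorem connected_of_surjective [IsIntegral X] {Y : Scheme.{u}} [IsIntegral Y] (ν : Y ⟶ X)
    (hsur : Function.Surjective ν.base) (L : X.Modules) (hL : PicF.IsInvertible L)
    (s : Coh.structureModule X ⟶ L) (hs : Mono s)
    (hY : ∀ (s' : Coh.structureModule Y ⟶ (Scheme.Modules.pullback ν).obj L), Mono s' →
      ConnectedSpace ↥(PicF2.zeroScheme ((Scheme.Modules.pullback ν).obj L) s').subscheme) :
    ConnectedSpace ↥(PicF2.zeroScheme L s).subscheme := by
  have hL' : PicF.IsInvertible ((Scheme.Modules.pullback ν).obj L) := PicLoc.isInvertible_pullback ν hL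
  let s' : Coh.structureModule Y ⟶ (Scheme.Modules.pullback ν).obj L := unitDesc _ (pullSec ν (unitVal s ⊤))
  have hg : glocus _ (unitVal s' ⊤) = ν ⁻¹ᵁ glocus L (unitVal s ⊤) :=
    (congrArg (glocus _) ((unitVal_unitDesc _ _ ⊤).trans (PicLib.resM_self _ _ _))).trans (glocus_pullSec ν hL _)
  have hs' : Mono s' := by
    refine VarietyLib.mono_of_ne_zero_invertible isInvertible_structureModule hL' s' fun h => ?_
    obtain ⟨x, hx⟩ := nonempty_glocus hL s hs
    obtain ⟨z, rfl⟩ := hsur x
    have hz : z ∈ glocus _ (unitVal s' ⊤) := hg.ge hx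
    obtain ⟨U, hzU, g, hgen⟩ := exists_isGen hL' z
    have h1 := (glocus_inf (unitVal s' ⊤) hgen).le ⟨hz, hzU⟩
    have h0 : unitVal s' ⊤ = 0 := by rw [h]; rfl
    rw [h0] at h1
    have h2 : hgen.coef le_rfl (resM _ (le_top : U ≤ ⊤) (0 : Γ((Scheme.Modules.pullback ν).obj L, ⊤))) = 0 :=
      hgen.coef_eq _ ((zero_smul _ _).trans (map_zero _).symm)
    rw [h2, Scheme.basicOpen_zero] at h1
    exact h1
  haveI := hY s' hs'
  have key : ∀ z, z ∈ (PicF2.zeroScheme _ s').support ↔ ν z ∈ (PicF2.zeroScheme L s).support := fun z => by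
    rw [HodgeQ27.mem_support_zeroScheme_iff hL', HodgeQ27.mem_support_zeroScheme_iff hL, hg]
    rfl
  have hrange : ((PicF2.zeroScheme L s).support : Set X) =
      ν.base '' ((PicF2.zeroScheme _ s').support : Set Y) := by
    refine Set.Subset.antisymm (fun x hx => ?_) ?_
    · obtain ⟨z, rfl⟩ := hsur x
      exact ⟨z, (key z).2 hx, rfl⟩
    · rintro _ ⟨z, hz, rfl⟩
      exact (key z).1 hz
  have hc : _root_.IsConnected ((PicF2.zeroScheme L s).support : Set X) := by
    rw [hrange, ← Scheme.IdealSheafData.range_subschemeι]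
    exact (isConnected_range (Scheme.Hom.continuous _)).image _ ν.continuous.continuousOn
  rw [← Scheme.IdealSheafData.range_subschemeι, ← Set.image_univ] at hc
  exact connectedSpace_iff_univ.2 ⟨hc.1.of_image,
    ((PicF2.zeroScheme L s).subschemeι.isClosedEmbedding.isInducing).isPreconnected_image.1 hc.2⟩

/-- An ample effective divisor on an integral proper scheme of dimension at least two is connected. -/
theorem connected_zeroScheme (f : X ⟶ Spec (CommRingCat.of k)) [IsProper f] [IsIntegral X]
    (hdim : (2 : WithBot ℕ∞) ≤ topologicalKrullDim X) (L : X.Modules)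
    (hL : CohB1.IsAmple L) (s : Coh.structureModule X ⟶ L) (hs : Mono s) :
    ConnectedSpace ↥(PicF2.zeroScheme L s).subscheme := by
  letI : X.Over (Spec (CommRingCat.of k)) := ⟨f⟩
  haveI : LocallyOfFiniteType (X ↘ Spec (CommRingCat.of k)) := inferInstanceAs (LocallyOfFiniteType f)
  haveI : IsLocallyNoetherian X := LocallyOfFiniteType.isLocallyNoetherian f
  obtain ⟨hfin, hdom, -, hint, hN⟩ := S1585.result k X
  haveI := hfin
  haveI := hdom
  haveI := hint
  let ν := Curv2.normalizationι X
  have hsur : Function.Surjective ν.base :=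
    Set.range_eq_univ.1 (ν.isClosedMap.isClosed_range.closure_eq.symm.trans hdom.1.closure_range)
  exact connected_of_surjective ν hsur L hL.1 s hs fun s' hs' =>
    connected_of_normal (ν ≫ f) hN (hdim.trans (dim_le_of_surjective f ν hsur)) _
      (S17806.result k f (ν ≫ f) ν rfl L hL.1 hL) s' hs'

end Groth.Agent.AmpleConn23
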